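import Mathlib
import Cfsg.Agent.Lib.Helper58.SuzA.Defs
import Cfsg.Agent.Lib.Helper45.SuzAut

/-!
# S3162 (SuzA), package (1) [COORD]

A Sylow 2-subgroup of `SU₃(2ⁿ)` has the coordinates `Coords F (2 ^ n) T`
(as in the proof of `Cfsg.Agent.Lib.Helper45.su3_even_sylow_aut_center`).
-/

set_option autoImplicit false

namespace Cfsg.Agent.Lib.Helper77.SuzA

open Cfsg.Agent.Lib.Helper58.SuzA Cfsg.Agent.Lib.Helper45

universe u v

/-- **(1) [COORD]** -/
theorem pkgCoord : PkgCoord.{u, v} := by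
  intro F _ _ n hn hF P T _ e
  classical
  have hp : Fact (Nat.Prime 2) := ⟨Nat.prime_two⟩
  have hq4 : 4 ≤ 2 ^ n := by
    calc 4 = 2 ^ 2 := by norm_num
      _ ≤ 2 ^ n := Nat.pow_le_pow_right (by norm_num) hn
  have hch : CharP F 2 := by
    obtain ⟨p, k, hpp, hchar, hq⟩ := q_prime_pow hF
    have hdvd : p ∣ 2 ^ n := by
      have hk : k ≠ 0 := by
        rintro rfl
        rw [pow_zero] at hq
        omega
      rw [hq]
      exact dvd_pow_self p hk
    have hp2 : p = 2 := (Nat.prime_dvd_prime_iff_eq hpp Nat.prime_two).mp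
      (hpp.dvd_of_dvd_pow hdvd)
    rw [hp2] at hchar
    exact hchar
  have hSUcard := card_SU hF 3 (by norm_num)
  have hfinSU : Finite ↥(Cfsg.SU 3 F (2 ^ n)) := inferInstance
  have hSUdvd : Nat.card ↥(Cfsg.SU 3 F (2 ^ n)) ∣
      (2 ^ n) ^ 3 * ((2 ^ n + 1) * ((2 ^ n) ^ 2 - 1) * ((2 ^ n) ^ 3 + 1)) := by
    refine Dvd.intro_left (2 ^ n + 1) ?_
    rw [hSUcard]
    simp [Finset.prod_range_succ]
  have hodd : Nat.Coprime 2 ((2 ^ n + 1) * ((2 ^ n) ^ 2 - 1) * ((2 ^ n) ^ 3 + 1)) := by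
    rw [Nat.coprime_two_left]
    have he : Even (2 ^ n) := (Nat.even_pow.mpr ⟨even_two, by omega⟩)
    have h1 : Odd (2 ^ n + 1) := he.add_one
    have h2 : Odd ((2 ^ n) ^ 2 - 1) := by
      have he2 : Even ((2 ^ n) ^ 2) := Nat.even_pow.mpr ⟨he, by norm_num⟩
      have hpos : 1 ≤ (2 ^ n) ^ 2 := Nat.one_le_pow _ _ (by omega)
      obtain ⟨r, hr⟩ := he2
      exact ⟨r - 1, by omega⟩
    have h3 : Odd ((2 ^ n) ^ 3 + 1) := (Nat.even_pow.mpr ⟨he, by norm_num⟩).add_one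
    exact (h1.mul h2).mul h3
  have hU := suzuki_coords_structure hF hch hq4 ⟨n, rfl⟩ (unipCoord3 hF hch)
    (unipCoord3_injective hF hch) (unipCoord3_mul hF hch) (unipCoord3_range hF hch)
  have hUcard : Nat.card ↥(unipU3 hF hch) = (2 ^ n) ^ 3 := hU.1
  have hS0p : IsPGroup 2 ↥(unipU3 hF hch) :=
    IsPGroup.of_card (n := n * 3) (by rw [hUcard, ← pow_mul])
  obtain ⟨Q, hQ⟩ := hS0p.exists_le_sylow
  obtain ⟨m, hm⟩ := IsPGroup.exists_card_eq Q.isPGroup'
  have hQle : Nat.card ↥(Q : Subgroup ↥(Cfsg.SU 3 F (2 ^ n))) ≤ (2 ^ n) ^ 3 := by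
    have hQdvd : Nat.card ↥(Q : Subgroup ↥(Cfsg.SU 3 F (2 ^ n))) ∣
        (2 ^ n) ^ 3 * ((2 ^ n + 1) * ((2 ^ n) ^ 2 - 1) * ((2 ^ n) ^ 3 + 1)) :=
      (Subgroup.card_subgroup_dvd_card _).trans hSUdvd
    rw [hm] at hQdvd ⊢
    have hcop : Nat.Coprime (2 ^ m) ((2 ^ n + 1) * ((2 ^ n) ^ 2 - 1) * ((2 ^ n) ^ 3 + 1)) :=
      Nat.Coprime.pow_left m hodd
    exact Nat.le_of_dvd (by positivity) (hcop.dvd_of_dvd_mul_right hQdvd)
  have hQeq : unipU3 hF hch = (Q : Subgroup ↥(Cfsg.SU 3 F (2 ^ n))) :=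
    Subgroup.eq_of_le_of_card_ge hQ (by rw [hUcard]; exact hQle)
  let ψ : T ≃* ↥(unipU3 hF hch) :=
    (e.trans (Sylow.equiv P Q)).trans (MulEquiv.subgroupCongr hQeq.symm)
  exact ⟨{ c := fun x => unipCoord3 hF hch (ψ x)
           inj := (unipCoord3_injective hF hch).comp ψ.injective
           mul := fun x y => by
             show unipCoord3 hF hch (ψ (x * y)) = _
             rw [map_mul, unipCoord3_mul]
           range := fun a b => by
             rw [← unipCoord3_range hF hch a b]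
             constructor
             · rintro ⟨x, hx⟩
               exact ⟨ψ x, hx⟩
             · rintro ⟨g, hg⟩
               exact ⟨ψ.symm g, by
                 show unipCoord3 hF hch (ψ (ψ.symm g)) = _
                 rw [ψ.apply_symm_apply, hg]⟩ }⟩

end Cfsg.Agent.Lib.Helper77.SuzA
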